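import Mathlib.AlgebraicGeometry.Morphisms.QuasiFinite
import Mathlib.AlgebraicGeometry.Morphisms.FormallyUnramified
import Mathlib.AlgebraicGeometry.Morphisms.Separated
import Mathlib.AlgebraicGeometry.Noetherian
import Mathlib.AlgebraicGeometry.Morphisms.IsIso
import Mathlib.AlgebraicGeometry.ResidueField
import Mathlib.AlgebraicGeometry.Morphisms.QuasiCompact
import Mathlib.RingTheory.Unramified.Finite

/-!
# Unramified morphisms: quasi-finiteness and rigidity
-/

universe u

open CategoryTheory CategoryTheory.Limits AlgebraicGeometry TensorProduct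

namespace Groth.Agent.EtBase

theorem quasiFinite_of_formallyUnramified (R S : Type u) [CommRing R] [CommRing S] [Algebra R S]
    [Algebra.FormallyUnramified R S] [Algebra.FiniteType R S] : Algebra.QuasiFinite R S :=
  ⟨fun P _ => by
    haveI : Algebra.FormallyUnramified P.ResidueField (P.Fiber S) :=
      Algebra.FormallyUnramified.base_change P.ResidueField
    exact Algebra.FormallyUnramified.finite_of_free P.ResidueField (P.Fiber S)⟩

/-- An unramified morphism is locally quasi-finite. -/
theorem locallyQuasiFinite_of_formallyUnramified {X Y : Scheme.{u}} (f : X ⟶ Y)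
    [FormallyUnramified f] [LocallyOfFiniteType f] : LocallyQuasiFinite f := by
  refine ⟨fun {U} hU {V} hV e => ?_⟩
  have h1 := f.formallyUnramified_appLE hU hV e
  have h2 := f.finiteType_appLE hU hV e
  algebraize [(f.appLE U V e).hom]
  exact quasiFinite_of_formallyUnramified _ _

/-- An unramified quasi-compact scheme over a field has finitely many sections. -/
theorem finite_sections {K : Type u} [Field K] {Z : Scheme.{u}} (p : Z ⟶ Spec (.of K))
    [FormallyUnramified p] [LocallyOfFiniteType p] [QuasiCompact p] :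
    Finite {x : Spec (.of K) ⟶ Z // x ≫ p = 𝟙 _} := by
  haveI := locallyQuasiFinite_of_formallyUnramified p
  haveI : Finite Z := by
    rw [← Set.finite_univ_iff]
    convert! p.finite_preimage_singleton (IsLocalRing.closedPoint K)
    ext z
    simp only [Set.mem_univ, Set.mem_preimage, Set.mem_singleton_iff, true_iff]
    exact Subsingleton.elim (α := PrimeSpectrum K) _ _
  refine Finite.of_injective (fun x => (Scheme.SpecToEquivOfField K Z x.1).1) fun x x' hxx => ?_
  apply Subtype.ext
  obtain ⟨⟨z, ψ⟩, h₁⟩ := (Scheme.SpecToEquivOfField K Z).symm.surjective x.1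
  obtain ⟨⟨z', ψ'⟩, h₂⟩ := (Scheme.SpecToEquivOfField K Z).symm.surjective x'.1
  have hz : z = z' := by
    simp only [← h₁, ← h₂, Equiv.apply_symm_apply] at hxx
    exact hxx
  subst hz
  obtain ⟨φ, hφ⟩ := Spec.map_surjective (Z.fromSpecResidueField z ≫ p)
  have key : ∀ (χ : Z.residueField z ⟶ .of K) (x : Spec (.of K) ⟶ Z),
      (Scheme.SpecToEquivOfField K Z).symm ⟨z, χ⟩ = x → x ≫ p = 𝟙 _ → φ ≫ χ = 𝟙 _ := by
    intro χ x hx hp
    apply Spec.map_injective
    rw [Spec.map_comp, hφ, Spec.map_id, ← hp, ← hx]
    simp [Scheme.SpecToEquivOfField]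
  have e : ψ = ψ' := by
    have e₁ := key ψ _ h₁ x.2
    have e₂ := key ψ' _ h₂ x'.2
    ext a
    have s : φ (ψ a) = a := ψ.hom.injective (by
      simpa using congrArg (fun f => f (ψ a)) e₁)
    conv_rhs => rw [← s]
    simpa using (congrArg (fun f => f (ψ a)) e₂).symm
  rw [← h₁, ← h₂, e]

/-- Morphisms to a separated unramified scheme agree on an open and closed subset. -/
theorem exists_clopen_equalizer {X S Y : Scheme.{u}} (π : X ⟶ S) [FormallyUnramified π]
    [LocallyOfFiniteType π] [IsSeparated π] (f g : Y ⟶ X) (hfg : f ≫ π = g ≫ π) :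
    ∃ (E : Scheme.{u}) (ι : E ⟶ Y), IsOpenImmersion ι ∧ IsClopen (Set.range ι.base) ∧
      ι ≫ f = ι ≫ g ∧
      ∀ {T : Scheme.{u}} (a : T ⟶ Y), a ≫ f = a ≫ g → ∃ b : T ⟶ E, b ≫ ι = a := by
  refine ⟨pullback (pullback.lift f g hfg) (pullback.diagonal π), pullback.fst _ _, inferInstance,
    ⟨(Scheme.Hom.isClosedEmbedding _).isClosed_range, (Scheme.Hom.isOpenEmbedding _).isOpen_range⟩, ?_, ?_⟩
  · have := pullback.condition (f := pullback.lift f g hfg) (g := pullback.diagonal π)
    have h1 := congrArg (· ≫ pullback.fst π π) this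
    have h2 := congrArg (· ≫ pullback.snd π π) this
    simp only [Category.assoc, pullback.lift_fst, pullback.lift_snd, pullback.diagonal_fst,
      pullback.diagonal_snd, Category.comp_id] at h1 h2
    exact h1.trans h2.symm
  · intro T a ha
    refine ⟨pullback.lift a (a ≫ f) ?_, pullback.lift_fst _ _ _⟩
    apply pullback.hom_ext <;> simp
    · erw [pullback.lift_fst]
    · erw [pullback.lift_snd]; exact ha.symm

/-- Finiteness of the set of morphisms. -/
theorem finite_homs {X S Y : Scheme.{u}} (π : X ⟶ S) [FormallyUnramified π]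
    [LocallyOfFiniteType π] [QuasiCompact π] [IsSeparated π] [IsNoetherian Y] (h : Y ⟶ S) :
    Set.Finite {f : Y ⟶ X | f ≫ π = h} := by
  classical
  have hirr : (irreducibleComponents Y).Finite :=
    TopologicalSpace.NoetherianSpace.finite_irreducibleComponents
  haveI := hirr.to_subtype
  choose y hy using fun C : irreducibleComponents Y => C.2.1.1
  have hsec : ∀ C, Finite {x : Spec (Y.residueField (y C)) ⟶
      pullback π (Y.fromSpecResidueField (y C) ≫ h) // x ≫ pullback.snd _ _ = 𝟙 _} := fun C =>
    haveI : FormallyUnramified (pullback.snd π (Y.fromSpecResidueField (y C) ≫ h)) :=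
      MorphismProperty.pullback_snd (P := @FormallyUnramified) _ _ ‹_›
    finite_sections (K := Y.residueField (y C)) _
  let Φ : {f : Y ⟶ X | f ≫ π = h} → ∀ C, {x : Spec (Y.residueField (y C)) ⟶
      pullback π (Y.fromSpecResidueField (y C) ≫ h) // x ≫ pullback.snd _ _ = 𝟙 _} := fun f C =>
    ⟨pullback.lift (Y.fromSpecResidueField (y C) ≫ f.1) (𝟙 _) (by
      rw [Category.assoc, f.2, Category.id_comp]), pullback.lift_snd _ _ _⟩
  refine Set.finite_coe_iff.mp (Finite.of_injective Φ fun f g hfg => Subtype.ext ?_)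
  obtain ⟨E, ι, hι, hcl, he, hu⟩ := exists_clopen_equalizer π f.1 g.1 (f.2.trans g.2.symm)
  have hsurj : Function.Surjective ι.base := by
    intro z
    let C : irreducibleComponents Y := ⟨irreducibleComponent z, irreducibleComponent_mem_irreducibleComponents z⟩
    have hC := congrArg (fun x => x.1 ≫ pullback.fst _ _) (congrFun hfg C)
    simp only [Φ, pullback.lift_fst] at hC
    obtain ⟨b, hb⟩ := hu _ hC
    have hy' : y C ∈ Set.range ι.base := by
      refine ⟨b.base (IsLocalRing.closedPoint _), ?_⟩
      rw [← Scheme.Hom.comp_apply, hb]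
      exact Y.fromSpecResidueField_apply _ _
    exact isPreconnected_iff_subset_of_disjoint.mp C.2.1.2.isPreconnected _ _ hcl.isOpen
      hcl.compl.isOpen (fun w _ => em _) (by simp) |>.elim
      (fun h' => h' mem_irreducibleComponent) (fun h' => absurd hy' (h' (hy C)))
  haveI : Surjective ι := ⟨hsurj⟩
  haveI : IsIso ι := (isIso_iff_isOpenImmersion_and_surjective ι).mpr ⟨hι, inferInstance⟩
  exact (cancel_epi ι).mp he

end Groth.Agent.EtBase
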