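import Groth.Agent.Lib.EtBase.Unramified
import Groth.Agent.Lib.Descend.EtaleLocalImm
import Mathlib.AlgebraicGeometry.AlgClosed.Basic
import Mathlib.AlgebraicGeometry.Limits
import Mathlib.AlgebraicGeometry.Morphisms.Etale
import Mathlib.AlgebraicGeometry.Morphisms.Finite
import Mathlib.FieldTheory.IsAlgClosed.AlgebraicClosure

/-!
# Finite unramified morphisms split into closed immersions étale locally
-/

universe u

set_option linter.style.haveILetI false

open CategoryTheory CategoryTheory.Limits AlgebraicGeometry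

namespace Groth.Agent.EtBase

/-- The source is a finite disjoint union of opens each mapping by a closed immersion. -/
def Decomp {Q U : Scheme.{u}} (q : Q ⟶ U) : Prop :=
  ∃ (ι : Type) (_ : Finite ι) (V : ι → Scheme.{u}) (m : ∀ j, V j ⟶ Q),
    (∀ j, IsOpenImmersion (m j)) ∧
    (∀ i j, i ≠ j → Disjoint (Set.range (m i).base) (Set.range (m j).base)) ∧
    (∀ z, ∃ j, z ∈ Set.range (m j).base) ∧ ∀ j, IsClosedImmersion (m j ≫ q)

theorem Decomp.of_iso {Q Q' U : Scheme.{u}} {q : Q ⟶ U} {q' : Q' ⟶ U} (e : Q ≅ Q')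
    (w : e.hom ≫ q' = q) (h : Decomp q) : Decomp q' := by
  obtain ⟨ι, hι, V, m, ho, hd, hc, hcl⟩ := h
  refine ⟨ι, hι, V, fun j => m j ≫ e.hom, fun j => ?_, fun i j hij => ?_, fun z => ?_, fun j => ?_⟩
  · have := ho j; infer_instance
  · rw [Set.disjoint_left]
    rintro z ⟨a, rfl⟩ ⟨b, hb⟩
    exact Set.disjoint_left.mp (hd i j hij) ⟨a, rfl⟩ ⟨b, e.hom.homeomorph.injective hb⟩
  · obtain ⟨j, a, ha⟩ := hc (e.inv z)
    refine ⟨j, a, ?_⟩
    rw [Scheme.Hom.comp_apply, ha, ← Scheme.Hom.comp_apply, e.inv_hom_id]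
    rfl
  · rw [Category.assoc, w]; exact hcl j

/-- Adding a piece. -/
theorem Decomp.insert {Q U Z W : Scheme.{u}} {q : Q ⟶ U} (a : Z ⟶ Q) (b : W ⟶ Q)
    [IsOpenImmersion a] [IsOpenImmersion b] (hd : Disjoint (Set.range a.base) (Set.range b.base))
    (hc : ∀ z, z ∈ Set.range a.base ∨ z ∈ Set.range b.base) (hb : IsClosedImmersion (b ≫ q))
    (h : Decomp (a ≫ q)) : Decomp q := by
  obtain ⟨ι, hι, V, m, ho, hmd, hmc, hcl⟩ := h
  refine ⟨Option ι, inferInstance, fun o => o.elim W V,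
    fun | none => b | some j => m j ≫ a, ?_, ?_, ?_, ?_⟩
  · rintro (_ | j)
    · exact inferInstanceAs (IsOpenImmersion b)
    · have := ho j
      exact inferInstanceAs (IsOpenImmersion (m j ≫ a))
  · rintro (_ | i) (_ | j) hij
    · exact absurd rfl hij
    · exact hd.symm.mono_right (by rintro _ ⟨x, rfl⟩; exact ⟨m j x, rfl⟩)
    · exact hd.mono_left (by rintro _ ⟨x, rfl⟩; exact ⟨m i x, rfl⟩)
    · rw [Set.disjoint_left]
      rintro z ⟨x, rfl⟩ ⟨y, hy⟩
      exact Set.disjoint_left.mp (hmd i j fun e => hij (congrArg some e)) ⟨x, rfl⟩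
        ⟨y, a.isOpenEmbedding.injective hy⟩
  · intro z
    rcases hc z with ⟨x, rfl⟩ | h
    · obtain ⟨j, y, rfl⟩ := hmc x
      exact ⟨some j, y, rfl⟩
    · exact ⟨none, h⟩
  · rintro (_ | j)
    · exact hb
    · show IsClosedImmersion ((m j ≫ a) ≫ q)
      rw [Category.assoc]; exact hcl j

/-- Geometric points over a given geometric point. -/
abbrev GeomPts {X S : Scheme.{u}} {Ω : Type u} [Field Ω] (f : X ⟶ S) (ω : Spec (.of Ω) ⟶ S) :=
  {γ : Spec (.of Ω) ⟶ X // γ ≫ f = ω}

theorem finite_geomPts {X S : Scheme.{u}} {Ω : Type u} [Field Ω] (f : X ⟶ S) [FormallyUnramified f]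
    [LocallyOfFiniteType f] [QuasiCompact f] (ω : Spec (.of Ω) ⟶ S) : Finite (GeomPts f ω) := by
  haveI : FormallyUnramified (pullback.snd f ω) :=
    MorphismProperty.pullback_snd (P := @FormallyUnramified) _ _ ‹_›
  haveI := finite_sections (pullback.snd f ω)
  refine Finite.of_injective (β := {x : Spec (.of Ω) ⟶ pullback f ω // x ≫ pullback.snd f ω = 𝟙 _})
    (fun γ => ⟨pullback.lift γ.1 (𝟙 _) (by rw [γ.2, Category.id_comp]), pullback.lift_snd _ _ _⟩) ?_
  intro γ γ' h
  apply Subtype.ext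
  have := congrArg (fun x => x.1 ≫ pullback.fst f ω) h
  exact (pullback.lift_fst _ _ _).symm.trans (this.trans (pullback.lift_fst _ _ _))

theorem not_mem_range_of_isEmpty {X S : Scheme.{u}} {Ω : Type u} [Field Ω] [IsAlgClosed Ω]
    (f : X ⟶ S) [IsFinite f] (ω : Spec (.of Ω) ⟶ S) (h : IsEmpty (GeomPts f ω)) :
    ω.base (IsLocalRing.closedPoint Ω) ∉ Set.range f.base := by
  rintro ⟨x, hx⟩
  obtain ⟨z, -, -⟩ := Scheme.Pullback.exists_preimage_pullback (f := f) (g := ω) x
    (IsLocalRing.closedPoint Ω) hx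
  haveI : CompactSpace ↥(pullback f ω) := QuasiCompact.compactSpace_of_compactSpace (pullback.snd f ω)
  obtain ⟨c, -, hc⟩ := isClosed_univ.exists_closed_singleton (S := (Set.univ : Set ↥(pullback f ω))) ⟨z, trivial⟩
  refine h.false ⟨pointOfClosedPoint (pullback.snd f ω) c hc ≫ pullback.fst f ω, ?_⟩
  rw [Category.assoc, pullback.condition, ← Category.assoc, pointOfClosedPoint_comp, Category.id_comp]

theorem exists_decomp {Ω : Type u} [Field Ω] [IsAlgClosed Ω] (N : ℕ) :
    ∀ {X S : Scheme.{u}} (f : X ⟶ S) [IsFinite f] [FormallyUnramified f]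
      (ω : Spec (.of Ω) ⟶ S), Nat.card (GeomPts f ω) ≤ N →
      ∃ (U : Scheme.{u}) (g : U ⟶ S) (_ : Etale g) (u : U),
        g.base u = ω.base (IsLocalRing.closedPoint Ω) ∧ Decomp (pullback.snd f g) := by
  induction N with
  | zero =>
    intro X S f _ _ ω hN
    haveI := finite_geomPts f ω
    have he : IsEmpty (GeomPts f ω) := Finite.card_eq_zero_iff.mp (Nat.le_zero.mp hN)
    have hs := not_mem_range_of_isEmpty f ω he
    let U : S.Opens := ⟨(Set.range f.base)ᶜ, (f.isClosedMap.isClosed_range).isOpen_compl⟩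
    refine ⟨U, U.ι, inferInstance, ⟨_, hs⟩, rfl, PEmpty, inferInstance, PEmpty.elim,
      fun j => j.elim, fun j => j.elim, fun j => j.elim, fun z => ?_, fun j => j.elim⟩
    refine absurd ⟨(pullback.fst f U.ι).base z, ?_⟩ ((pullback.snd f U.ι).base z).2
    rw [← Scheme.Hom.comp_apply, pullback.condition]
    rfl
  | succ N ih =>
    intro X S f _ _ ω hN
    haveI := finite_geomPts f ω
    by_cases he : IsEmpty (GeomPts f ω)
    · exact ih f ω (by rw [Nat.card_of_isEmpty]; exact Nat.zero_le _)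
    obtain ⟨γ⟩ := not_isEmpty_iff.mp he
    obtain ⟨V, Y', g, i, hxV, hg, hi, hw⟩ :=
      Descend.exists_etale_closedImmersion f (γ.1.base (IsLocalRing.closedPoint Ω))
    let γV : Spec (.of Ω) ⟶ V := IsOpenImmersion.lift V.ι γ.1 (by
      rintro _ ⟨w, rfl⟩
      rw [Scheme.Opens.range_ι, Subsingleton.elim (α := PrimeSpectrum Ω) w (IsLocalRing.closedPoint Ω)]
      exact hxV)
    have hγV : γV ≫ V.ι = γ.1 := IsOpenImmersion.lift_fac _ _ _
    let ω' := γV ≫ i
    have hω' : ω' ≫ g = ω := by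
      rw [Category.assoc, hw, ← Category.assoc, hγV, γ.2]
    let σ : V.toScheme ⟶ pullback f g := pullback.lift V.ι i hw.symm
    haveI : Etale (σ ≫ pullback.fst f g) := by rw [pullback.lift_fst]; infer_instance
    haveI : Etale σ := Etale.of_comp σ (pullback.fst f g)
    haveI : Mono σ := by
      haveI : Mono (σ ≫ pullback.fst f g) := by rw [pullback.lift_fst]; infer_instance
      exact mono_of_mono σ (pullback.fst f g)
    haveI : IsOpenImmersion σ := IsOpenImmersion.of_flat_of_mono σ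
    have hσq : IsClosedImmersion (σ ≫ pullback.snd f g) := by rw [pullback.lift_snd]; exact hi
    haveI : IsClosedImmersion σ := IsClosedImmersion.of_comp σ (pullback.snd f g)
    let Z : (pullback f g).Opens :=
      ⟨(Set.range σ.base)ᶜ, σ.isClosedEmbedding.isClosed_range.isOpen_compl⟩
    haveI : IsClosedImmersion Z.ι := IsClosedImmersion.of_isPreimmersion _ (by
      rw [Scheme.Opens.range_ι]
      exact σ.isOpenEmbedding.isOpen_range.isClosed_compl)
    haveI : FormallyUnramified (pullback.snd f g) :=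
      MorphismProperty.pullback_snd (P := @FormallyUnramified) _ _ ‹_›
    haveI : FormallyUnramified (Z.ι ≫ pullback.snd f g) :=
      MorphismProperty.comp_mem _ _ _ inferInstance inferInstance
    haveI := finite_geomPts (Z.ι ≫ pullback.snd f g) ω'
    let Φ : Option (GeomPts (Z.ι ≫ pullback.snd f g) ω') → GeomPts f ω := fun o => o.elim γ fun δ =>
      ⟨δ.1 ≫ Z.ι ≫ pullback.fst f g, by
        rw [Category.assoc, Category.assoc, pullback.condition, ← hω']
        simpa [Category.assoc] using congrArg (· ≫ g) δ.2⟩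
    have hne : ∀ δ : GeomPts (Z.ι ≫ pullback.snd f g) ω', δ.1 ≫ Z.ι ≫ pullback.fst f g ≠ γ.1 := by
      intro δ hδ
      have e : δ.1 ≫ Z.ι = γV ≫ σ := by
        apply pullback.hom_ext
        · rw [Category.assoc, Category.assoc, pullback.lift_fst, hγV, hδ]
        · rw [Category.assoc, Category.assoc, pullback.lift_snd]; exact δ.2
      have h1 := (δ.1.base (IsLocalRing.closedPoint Ω)).2
      refine h1 ⟨γV.base (IsLocalRing.closedPoint Ω), ?_⟩
      rw [← Scheme.Hom.comp_apply, ← e]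
      rfl
    have hΦ : Function.Injective Φ := by
      rintro (_ | δ) (_ | δ') h
      · rfl
      · exact absurd (congrArg Subtype.val h).symm (hne δ')
      · exact absurd (congrArg Subtype.val h) (hne δ)
      · congr 1
        apply Subtype.ext
        rw [← cancel_mono Z.ι]
        apply pullback.hom_ext
        · simpa [Φ, Category.assoc] using congrArg Subtype.val h
        · rw [Category.assoc, Category.assoc]; exact δ.2.trans δ'.2.symm
    have hle : Nat.card (GeomPts (Z.ι ≫ pullback.snd f g) ω') ≤ N := by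
      have := Nat.card_le_card_of_injective Φ hΦ
      rw [Finite.card_option] at this
      lia
    obtain ⟨U₂, g₂, hg₂, u₂, hu₂, hdec⟩ := ih (Z.ι ≫ pullback.snd f g) ω' hle
    refine ⟨U₂, g₂ ≫ g, inferInstance, u₂, ?_, ?_⟩
    · rw [Scheme.Hom.comp_apply, hu₂, ← Scheme.Hom.comp_apply, hω']
    refine Decomp.of_iso (pullbackLeftPullbackSndIso f g g₂)
      (pullbackLeftPullbackSndIso_hom_snd f g g₂) ?_
    let q := pullback.snd f g
    let a : pullback (Z.ι ≫ q) g₂ ⟶ pullback q g₂ :=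
      (pullbackRightPullbackFstIso q g₂ Z.ι).inv ≫ pullback.snd _ _
    let b : pullback (σ ≫ q) g₂ ⟶ pullback q g₂ :=
      (pullbackRightPullbackFstIso q g₂ σ).inv ≫ pullback.snd _ _
    have ha : a ≫ pullback.snd q g₂ = pullback.snd (Z.ι ≫ q) g₂ := by
      simp only [a, Category.assoc]
      exact pullbackRightPullbackFstIso_inv_snd_snd _ _ _
    have hb : b ≫ pullback.snd q g₂ = pullback.snd (σ ≫ q) g₂ := by
      simp only [b, Category.assoc]
      exact pullbackRightPullbackFstIso_inv_snd_snd _ _ _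
    have hr : ∀ {T : Scheme.{u}} (j : T ⟶ pullback f g) [IsOpenImmersion j],
        Set.range ((pullbackRightPullbackFstIso q g₂ j).inv ≫ pullback.snd _ _).base =
          (pullback.fst q g₂).base ⁻¹' Set.range j.base := by
      intro T j _
      refine Eq.trans ?_ (IsOpenImmersion.range_pullbackSnd j (pullback.fst q g₂))
      ext z
      constructor
      · rintro ⟨w, rfl⟩
        exact ⟨_, rfl⟩
      · rintro ⟨w, rfl⟩
        refine ⟨(pullbackRightPullbackFstIso q g₂ j).hom w, ?_⟩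
        rw [← Scheme.Hom.comp_apply, Iso.hom_inv_id_assoc]
    refine Decomp.insert a b ?_ ?_ ?_ (ha.symm ▸ hdec)
    · rw [hr, hr]
      refine Disjoint.preimage _ ?_
      rw [Scheme.Opens.range_ι]
      exact disjoint_compl_left
    · intro z
      rw [hr, hr, Set.mem_preimage, Set.mem_preimage, Scheme.Opens.range_ι]
      exact (em _).symm
    · rw [hb]; infer_instance

theorem exists_split_of_geomPoint {X S : Scheme.{u}} {Ω : Type u} [Field Ω] [IsAlgClosed Ω]
    (f : X ⟶ S) [IsFinite f] [FormallyUnramified f] (ω : Spec (.of Ω) ⟶ S) :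
    ∃ (U : Scheme.{u}) (g : U ⟶ S) (_ : Etale g) (u : U)
      (_ : g.base u = ω.base (IsLocalRing.closedPoint Ω))
      (n : ℕ) (V : Fin n → Scheme.{u}) (c : ∀ j, V j ⟶ U) (_ : ∀ j, IsClosedImmersion (c j))
      (e : (∐ V) ≅ pullback f g), ∀ j, Sigma.ι V j ≫ e.hom ≫ pullback.snd f g = c j := by
  obtain ⟨U, g, hg, u, hu, ι, _, V, m, ho, hd, hc, hcl⟩ :=
    exists_decomp (Nat.card (GeomPts f ω)) f ω le_rfl
  refine ⟨U, g, hg, u, hu, ?_⟩
  obtain ⟨n, ⟨ε⟩⟩ := Finite.exists_equiv_fin ι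
  refine ⟨n, fun j => V (ε.symm j), fun j => m (ε.symm j) ≫ pullback.snd f g, fun j => hcl _, ?_⟩
  haveI : ∀ j, IsOpenImmersion (m (ε.symm j)) := fun j => ho _
  haveI : IsOpenImmersion (Sigma.desc fun j => m (ε.symm j)) :=
    isOpenImmersion_sigmaDesc _ _ fun i j hij => hd _ _ fun e => hij (ε.symm.injective e)
  haveI : Surjective (Sigma.desc fun j => m (ε.symm j)) := ⟨fun z => by
    obtain ⟨j, w, hw⟩ := hc z
    obtain ⟨j, rfl⟩ := ε.symm.surjective j
    exact ⟨(Sigma.ι (fun j => V (ε.symm j)) j).base w, by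
      rw [← Scheme.Hom.comp_apply, Sigma.ι_desc]; exact hw⟩⟩
  haveI : IsIso (Sigma.desc fun j => m (ε.symm j)) :=
    (isIso_iff_isOpenImmersion_and_surjective _).mpr ⟨inferInstance, inferInstance⟩
  exact ⟨asIso (Sigma.desc fun j => m (ε.symm j)), fun j => by simp⟩

theorem exists_isAlgClosed_hom (K : Type u) [Field K] :
    ∃ (Ω : Type u) (_ : Field Ω) (_ : IsAlgClosed Ω), Nonempty (K →+* Ω) :=
  ⟨AlgebraicClosure K, inferInstance, inferInstance, ⟨algebraMap K (AlgebraicClosure K)⟩⟩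

theorem exists_split {X S : Scheme.{u}} (f : X ⟶ S) [IsFinite f] [FormallyUnramified f] (s : S) :
    ∃ (U : Scheme.{u}) (g : U ⟶ S) (_ : Etale g) (u : U) (_ : g.base u = s)
      (n : ℕ) (V : Fin n → Scheme.{u}) (c : ∀ j, V j ⟶ U) (_ : ∀ j, IsClosedImmersion (c j))
      (e : (∐ V) ≅ pullback f g), ∀ j, Sigma.ι V j ≫ e.hom ≫ pullback.snd f g = c j := by
  obtain ⟨Ω, _, _, ⟨φ⟩⟩ := exists_isAlgClosed_hom (S.residueField s)
  obtain ⟨U, g, hg, u, hu, h⟩ := exists_split_of_geomPoint f
    (Spec.map (CommRingCat.ofHom φ) ≫ S.fromSpecResidueField s)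
  exact ⟨U, g, hg, u, by rw [hu, Scheme.Hom.comp_apply]; exact S.fromSpecResidueField_apply s _, h⟩

end Groth.Agent.EtBase
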